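import Groth.Agent.ResProp.EF.K743.Iface2
import Mathlib.RingTheory.Flat.Basic
import Mathlib.RingTheory.TensorProduct.Basic
import Mathlib.RingTheory.TensorProduct.Maps

/-!
# G1B-F3, part ACT: the groupoid acts on the frame ring (closure of one orbit)

`ActData F`: the fields `act`, `act_ι`, `act_Q₁`, `act_μ`, `act_id`, `act_comp` of `K743.Frame`.
`nonempty_actData`: they exist for `LRing.frameData P R` if `G.s` is flat.
-/

set_option autoImplicit false

universe u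

open Groth.Agent.Grpsch.AffGrpd TensorProduct

namespace Groth.Agent.ResProp.EF.K213

open K743

/-! ### Push-outs along a flat map -/

/-- Push-out of `j : D → L` along `s : A → Γ`, as a structure. -/
structure Push {A D L Γ : Type u} [CommRing A] [CommRing D] [CommRing L] [CommRing Γ] (ι : A →+* D) (j : D →+* L)
    (s : A →+* Γ) where
  D2 : Type u
  L2 : Type u
  [crD : CommRing D2]
  [crL : CommRing L2]
  p1 : D →+* D2
  p2 : Γ →+* D2
  q1 : L →+* L2
  q2 : Γ →+* L2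
  j2 : D2 →+* L2
  hp : p1.comp ι = p2.comp s
  hq : q1.comp (j.comp ι) = q2.comp s
  j2p1 : j2.comp p1 = q1.comp j
  j2p2 : j2.comp p2 = q2
  inj : Function.Injective j2
  lift : ∀ {T : Type u} [CommRing T] (φ : D →+* T) (σ : Γ →+* T), φ.comp ι = σ.comp s →
    ∃ f : D2 →+* T, f.comp p1 = φ ∧ f.comp p2 = σ

attribute [instance] Push.crD Push.crL

theorem nonempty_push {A D L Γ : Type u} [CommRing A] [CommRing D] [CommRing L] [CommRing Γ] (ι : A →+* D)
    (j : D →+* L) (hj : Function.Injective j) (s : A →+* Γ) (hs : s.Flat) : Nonempty (Push ι j s) := by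
  letI := ι.toAlgebra
  letI := s.toAlgebra
  letI := (j.comp ι).toAlgebra
  let J : D →ₐ[A] L := { j with commutes' := fun a => rfl }
  haveI : Module.Flat A Γ := hs
  refine ⟨⟨D ⊗[A] Γ, L ⊗[A] Γ, (Algebra.TensorProduct.includeLeft : D →ₐ[A] D ⊗[A] Γ).toRingHom,
    (Algebra.TensorProduct.includeRight : Γ →ₐ[A] D ⊗[A] Γ).toRingHom,
    (Algebra.TensorProduct.includeLeft : L →ₐ[A] L ⊗[A] Γ).toRingHom,
    (Algebra.TensorProduct.includeRight : Γ →ₐ[A] L ⊗[A] Γ).toRingHom,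
    (Algebra.TensorProduct.map J (AlgHom.id A Γ)).toRingHom, ?_, ?_, ?_, ?_, ?_, ?_⟩⟩
  · ext a
    exact (Algebra.TensorProduct.includeLeft : D →ₐ[A] D ⊗[A] Γ).commutes a |>.trans
      ((Algebra.TensorProduct.includeRight : Γ →ₐ[A] D ⊗[A] Γ).commutes a).symm
  · ext a
    exact (Algebra.TensorProduct.includeLeft : L →ₐ[A] L ⊗[A] Γ).commutes a |>.trans
      ((Algebra.TensorProduct.includeRight : Γ →ₐ[A] L ⊗[A] Γ).commutes a).symm
  · ext d
    simp [J]
  · ext d
    simp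
  · exact Module.Flat.rTensor_preserves_injective_linearMap J.toLinearMap hj
  · intro T _ φ σ h
    let _ := (φ.comp ι).toAlgebra
    let Φ : D →ₐ[A] T := { φ with commutes' := fun a => rfl }
    let Ψ : Γ →ₐ[A] T := { σ with commutes' := fun a => (RingHom.congr_fun h a).symm }
    refine ⟨(Algebra.TensorProduct.lift Φ Ψ (fun _ _ => Commute.all _ _)).toRingHom, ?_, ?_⟩
    · ext d
      simp [Φ]
    · ext d
      simp [Ψ]

/-! ### Inverses in `RGrpd` -/

section Grpd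

variable {A Γ : Type u} [CommRing A] [CommRing Γ] (G : RGrpd A Γ)

theorem comp_congr {T : Type u} [CommRing T] {α α' β β' : Γ →+* T} (hα : α = α') (hβ : β = β')
    (h : α.comp G.s = β.comp G.t) (h' : α'.comp G.s = β'.comp G.t) : G.comp α β h = G.comp α' β' h' := by
  subst hα hβ
  rfl

theorem src_i {T : Type u} [CommRing T] (α : Γ →+* T) : (α.comp G.i).comp G.s = α.comp G.t := by
  rw [RingHom.comp_assoc, G.i_s]

theorem tgt_i {T : Type u} [CommRing T] (α : Γ →+* T) : (α.comp G.i).comp G.t = α.comp G.s := by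
  rw [RingHom.comp_assoc, G.i_t]

theorem e_comp' {T : Type u} [CommRing T] (a : A →+* T) (α : Γ →+* T) (ha : a = α.comp G.t)
    (h : (a.comp G.e).comp G.s = α.comp G.t) : G.comp (a.comp G.e) α h = α := by
  subst ha
  exact G.e_comp α

theorem comp_e' {T : Type u} [CommRing T] (a : A →+* T) (α : Γ →+* T) (ha : a = α.comp G.s)
    (h : α.comp G.s = (a.comp G.e).comp G.t) : G.comp α (a.comp G.e) h = α := by
  subst ha
  exact G.comp_e α

theorem src_e {T : Type u} [CommRing T] (a : A →+* T) : (a.comp G.e).comp G.s = a := by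
  rw [RingHom.comp_assoc, G.e_s, RingHom.comp_id]

theorem tgt_e {T : Type u} [CommRing T] (a : A →+* T) : (a.comp G.e).comp G.t = a := by
  rw [RingHom.comp_assoc, G.e_t, RingHom.comp_id]

/-- `(σ ρ)⁻¹ = ρ⁻¹ σ⁻¹` -/
theorem comp_i_eq {T : Type u} [CommRing T] (σ ρ : Γ →+* T) (h : σ.comp G.s = ρ.comp G.t)
    (h' : (ρ.comp G.i).comp G.s = (σ.comp G.i).comp G.t) :
    (G.comp σ ρ h).comp G.i = G.comp (ρ.comp G.i) (σ.comp G.i) h' := by
  -- `δ = ρ⁻¹ σ⁻¹`, `γ = σ ρ`
  set γ := G.comp σ ρ h with hγ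
  set δ := G.comp (ρ.comp G.i) (σ.comp G.i) h' with hδ
  have sδ : δ.comp G.s = σ.comp G.t := by rw [hδ, G.comp_s, src_i]
  have tγ : γ.comp G.t = σ.comp G.t := by rw [hγ, G.comp_t]
  have sγ : γ.comp G.s = ρ.comp G.s := by rw [hγ, G.comp_s]
  have h1 : δ.comp G.s = γ.comp G.t := sδ.trans tγ.symm
  -- `δ γ = id`
  have e0 : G.comp (σ.comp G.i) γ ((src_i G σ).trans tγ.symm) = ρ := by
    have a1 := G.assoc (σ.comp G.i) σ ρ (src_i G σ) h
    rw [← a1, comp_congr G (G.i_comp σ) rfl _ (by rw [src_e]; exact h)]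
    exact e_comp' G _ _ h _
  have e1 : G.comp δ γ h1 = (ρ.comp G.s).comp G.e := by
    have a1 := G.assoc (ρ.comp G.i) (σ.comp G.i) γ h' ((src_i G σ).trans tγ.symm)
    rw [a1, comp_congr G rfl e0 _ (src_i G ρ), G.i_comp]
  have h2 : δ.comp G.s = (G.comp γ (γ.comp G.i) (tgt_i G γ).symm).comp G.t := by
    rw [G.comp_t]; exact h1
  have e2 : G.comp δ (G.comp γ (γ.comp G.i) (tgt_i G γ).symm) h2 = δ := by
    rw [comp_congr G rfl (G.comp_i γ) _ (by rw [tgt_e]; exact h1)]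
    exact comp_e' G _ _ h1.symm _
  have e3 := G.assoc δ γ (γ.comp G.i) h1 (tgt_i G γ).symm
  rw [e2] at e3
  rw [← e3, comp_congr G e1 rfl _ (by rw [src_e, tgt_i, sγ])]
  exact (e_comp' G _ _ (by rw [tgt_i, sγ]) _).symm

end Grpd

/-! ### The basic identity -/

section Key

variable {A Γ : Type u} [CommRing A] [CommRing Γ] {G : RGrpd A Γ} {X : Gens G} {m : ℕ} {K : Type u} [Field K]
  {x : A →+* K} (P : PtData G X m x)

/-- `c((σ ρ)⁻¹) = c(ρ⁻¹) c(σ⁻¹)` modulo the relations -/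
theorem key {T : Type u} [CommRing T] (y : K →+* T) (ρ σ : Γ →+* T) (hρ : ρ.comp G.s = y.comp x)
    (h : σ.comp G.s = ρ.comp G.t) (j : Fin X.n) (a : Fin P.r₁) :
    ∑ l, G.comp σ ρ h (G.i (X.c l j)) * y (P.V₁ l a) =
      ∑ k, σ (G.i (X.c k j)) * ∑ l, ρ (G.i (X.c l k)) * y (P.V₁ l a) := by
  have h0 : (fun a => ∑ l, (G.comp σ ρ h (G.i (X.c l j)) - ∑ k, σ (G.i (X.c k j)) * ρ (G.i (X.c l k))) *
      y (P.V₁ l a)) = (0 : Fin P.r₁ → T) := by
    apply P.inj₁ y
    intro T' _ f η e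
    have h1 : ∑ a, P.w₁ (f.comp y) η e a * f (∑ l, (G.comp σ ρ h (G.i (X.c l j)) -
        ∑ k, σ (G.i (X.c k j)) * ρ (G.i (X.c l k))) * y (P.V₁ l a)) =
        ∑ l, (f (G.comp σ ρ h (G.i (X.c l j))) - ∑ k, f (σ (G.i (X.c k j))) * f (ρ (G.i (X.c l k)))) *
          η (X.x l) := by
      simp only [map_sum, map_mul, map_sub, Finset.mul_sum]
      rw [Finset.sum_comm]
      refine Finset.sum_congr rfl fun l _ => ?_
      rw [P.hw₁ (f.comp y) η e l, Finset.mul_sum]
      refine Finset.sum_congr rfl fun a _ => ?_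
      rw [RingHom.comp_apply]
      ring
    rw [h1]
    -- arrows over `T'`
    have hb : η.comp G.s = ((f.comp ρ).comp G.i).comp G.t := by
      rw [tgt_i, RingHom.comp_assoc, hρ, e, RingHom.comp_assoc]
    have hd : ((f.comp ρ).comp G.i).comp G.s = ((f.comp σ).comp G.i).comp G.t := by
      rw [src_i, tgt_i, RingHom.comp_assoc, RingHom.comp_assoc, h]
    have e1 := G.assoc η ((f.comp ρ).comp G.i) ((f.comp σ).comp G.i) hb hd
    have e2 := RingHom.congr_fun e1 (X.x j)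
    rw [X.hc, X.hc] at e2
    have e3 : f.comp ((G.comp σ ρ h).comp G.i) = G.comp ((f.comp ρ).comp G.i) ((f.comp σ).comp G.i) hd := by
      rw [← RingHom.comp_assoc, G.comp_nat f σ ρ h]
      exact comp_i_eq G _ _ _ _
    rw [← e3] at e2
    simp only [X.hc, RingHom.comp_apply] at e2
    have e4 : ∑ l, (f (G.comp σ ρ h (G.i (X.c l j))) - ∑ k, f (σ (G.i (X.c k j))) * f (ρ (G.i (X.c l k)))) *
          η (X.x l) = ∑ l, η (X.x l) * f (G.comp σ ρ h (G.i (X.c l j))) -
          ∑ k, (∑ l, η (X.x l) * f (ρ (G.i (X.c l k)))) * f (σ (G.i (X.c k j))) := by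
      simp only [sub_mul, Finset.sum_sub_distrib, Finset.sum_mul]
      congr 1
      · exact Finset.sum_congr rfl fun l _ => mul_comm _ _
      · rw [Finset.sum_comm]
        refine Finset.sum_congr rfl fun l _ => Finset.sum_congr rfl fun k _ => by ring
    rw [e4, e2, sub_self]
  have h2 := congrFun h0 a
  simp only [Pi.zero_apply, sub_mul, Finset.sum_sub_distrib, sub_eq_zero] at h2
  rw [h2]
  simp only [Finset.mul_sum, Finset.sum_mul]
  rw [Finset.sum_comm]
  exact Finset.sum_congr rfl fun k _ => Finset.sum_congr rfl fun l _ => by ring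

variable (R : LRing G x P.r₁ P.r₂)

/-- a `T`-point of `L` moved by an arrow -/
noncomputable def actL {T : Type u} [CommRing T] (σ : Γ →+* T) (ψ : R.L →+* T) (h : σ.comp G.s = (ψ.comp R.γ).comp G.t) :
    R.L →+* T :=
  R.lift (ψ.comp R.y) (G.comp σ (ψ.comp R.γ) h) (by rw [G.comp_s, RingHom.comp_assoc, R.hγ, RingHom.comp_assoc])
    (Matrix.GeneralLinearGroup.map ψ R.l₁) (Matrix.GeneralLinearGroup.map ψ R.l₂)

variable {R} {T : Type u} [CommRing T] (σ : Γ →+* T) (ψ : R.L →+* T) (h : σ.comp G.s = (ψ.comp R.γ).comp G.t)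

theorem actL_y : (actL P R σ ψ h).comp R.y = ψ.comp R.y := R.lift_y _ _ _ _ _

theorem actL_γ : (actL P R σ ψ h).comp R.γ = G.comp σ (ψ.comp R.γ) h := R.lift_γ _ _ _ _ _

theorem actL_l₁ (i j : Fin P.r₁) : actL P R σ ψ h (R.l₁.1 i j) = ψ (R.l₁.1 i j) := R.lift_l₁ _ _ _ _ _ _ _

theorem actL_l₂ (i j : Fin P.r₂) : actL P R σ ψ h (R.l₂.1 i j) = ψ (R.l₂.1 i j) := R.lift_l₂ _ _ _ _ _ _ _

theorem actL_l₁_inv (i j : Fin P.r₁) : actL P R σ ψ h ((R.l₁⁻¹).1 i j) = ψ ((R.l₁⁻¹).1 i j) := by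
  have h1 : Matrix.GeneralLinearGroup.map (actL P R σ ψ h) R.l₁ = Matrix.GeneralLinearGroup.map ψ R.l₁ := by
    apply Units.ext
    ext i j
    exact actL_l₁ P σ ψ h i j
  have h2 := congrArg (fun g => (g⁻¹).1 i j) h1
  simp only [← map_inv] at h2
  exact h2

theorem actL_t (a : A) : actL P R σ ψ h (R.γ (G.t a)) = σ (G.t a) := by
  have := RingHom.congr_fun (congrArg (fun f => f.comp G.t) (actL_γ P σ ψ h)) a
  simp only [G.comp_t] at this
  exact this

theorem actL_Q₁ (j : Fin X.n) (a : Fin P.r₁) :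
    actL P R σ ψ h (LRing.Q₁L P R j a) = ∑ k, σ (G.i (X.c k j)) * ψ (LRing.Q₁L P R k a) := by
  have hk : ∀ (θ : R.L →+* T) (hy : θ.comp R.y = ψ.comp R.y) (hl : ∀ i j, θ (R.l₁.1 i j) = ψ (R.l₁.1 i j))
      (j : Fin X.n), θ (LRing.Q₁L P R j a) =
      ∑ a', ψ (R.l₁.1 a a') * ∑ l, θ (R.γ (G.i (X.c l j))) * (ψ.comp R.y) (P.V₁ l a') := by
    intro θ hy hl j
    simp only [LRing.Q₁L, map_sum, map_mul, hl, Finset.mul_sum, ← hy, RingHom.comp_apply]
    rw [Finset.sum_comm]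
    exact Finset.sum_congr rfl fun k _ => Finset.sum_congr rfl fun l _ => by ring
  rw [hk _ (actL_y P σ ψ h) (actL_l₁ P σ ψ h)]
  have h3 : ∀ k, ψ (LRing.Q₁L P R k a) = _ := fun k => hk ψ rfl (fun _ _ => rfl) k
  simp only [h3]
  have hρ : (ψ.comp R.γ).comp G.s = (ψ.comp R.y).comp x := by
    rw [RingHom.comp_assoc, R.hγ, RingHom.comp_assoc]
  have h4 : ∀ a', ∑ l, actL P R σ ψ h (R.γ (G.i (X.c l j))) * (ψ.comp R.y) (P.V₁ l a') =
      ∑ k, σ (G.i (X.c k j)) * ∑ l, ψ (R.γ (G.i (X.c l k))) * (ψ.comp R.y) (P.V₁ l a') := by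
    intro a'
    refine Eq.trans ?_ (key P (ψ.comp R.y) (ψ.comp R.γ) σ hρ h j a')
    refine Finset.sum_congr rfl fun l _ => ?_
    congr 1
    exact RingHom.congr_fun (actL_γ P σ ψ h) (G.i (X.c l j))
  simp only [h4, Finset.mul_sum]
  rw [Finset.sum_comm]
  exact Finset.sum_congr rfl fun k _ => Finset.sum_congr rfl fun l _ => Finset.sum_congr rfl fun i _ => by ring

theorem actL_μ (κ : Fin m → Fin P.r₁) (b : Fin P.r₂) :
    actL P R σ ψ h (LRing.μL P R κ b) = ψ (LRing.μL P R κ b) := by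
  simp only [LRing.μL, map_sum, map_mul, map_prod, actL_l₂, actL_l₁_inv]
  refine Finset.sum_congr rfl fun b' _ => Finset.sum_congr rfl fun κ' _ => ?_
  congr 2
  exact RingHom.congr_fun (actL_y P σ ψ h) (P.μ₀ κ' b')

theorem actL_id (a : A →+* T) (h : (a.comp G.e).comp G.s = (ψ.comp R.γ).comp G.t) :
    actL P R (a.comp G.e) ψ h = ψ := by
  apply R.ext
  · exact actL_y P _ ψ h
  · refine (actL_γ P _ ψ h).trans (e_comp' G a _ ?_ _)
    rw [← h, src_e]
  · exact actL_l₁ P _ ψ h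
  · exact actL_l₂ P _ ψ h

theorem actL_comp (τ : Γ →+* T) (h₁ : τ.comp G.s = σ.comp G.t) (h₂ : (G.comp τ σ h₁).comp G.s = (ψ.comp R.γ).comp G.t)
    (h₃ : τ.comp G.s = ((actL P R σ ψ h).comp R.γ).comp G.t) :
    actL P R (G.comp τ σ h₁) ψ h₂ = actL P R τ (actL P R σ ψ h) h₃ := by
  apply R.ext
  · rw [actL_y, actL_y, actL_y]
  · rw [actL_γ, actL_γ, comp_congr G rfl (actL_γ P σ ψ h) h₃ (h₁.trans (G.comp_t _ _ _).symm)]
    exact G.assoc τ σ (ψ.comp R.γ) h₁ h
  · intro i j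
    rw [actL_l₁, actL_l₁, actL_l₁]
  · intro i j
    rw [actL_l₂, actL_l₂, actL_l₂]

end Key

/-! ### The action on the frame ring -/

/-- the action part of `K743.Frame` -/
structure ActData {A Γ : Type u} [CommRing A] [CommRing Γ] {G : RGrpd A Γ} {X : Gens G} {m : ℕ}
    (F : FrameData G X m) where
  act : ∀ {T : Type u} [CommRing T] (σ : Γ →+* T) (φ : F.D →+* T), σ.comp G.s = φ.comp F.ι → (F.D →+* T)
  act_ι : ∀ {T : Type u} [CommRing T] (σ : Γ →+* T) (φ : F.D →+* T) (h : σ.comp G.s = φ.comp F.ι),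
    (act σ φ h).comp F.ι = σ.comp G.t
  act_Q₁ : ∀ {T : Type u} [CommRing T] (σ : Γ →+* T) (φ : F.D →+* T) (h : σ.comp G.s = φ.comp F.ι) (j : Fin X.n)
    (a : Fin F.r₁), act σ φ h (F.Q₁ j a) = ∑ k, σ (G.i (X.c k j)) * φ (F.Q₁ k a)
  act_μ : ∀ {T : Type u} [CommRing T] (σ : Γ →+* T) (φ : F.D →+* T) (h : σ.comp G.s = φ.comp F.ι)
    (κ : Fin m → Fin F.r₁) (b : Fin F.r₂), act σ φ h (F.μ κ b) = φ (F.μ κ b)
  /-- the identity acts as the identity -/
  act_id : ∀ {T : Type u} [CommRing T] (φ : F.D →+* T) (h : ((φ.comp F.ι).comp G.e).comp G.s = φ.comp F.ι),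
    act ((φ.comp F.ι).comp G.e) φ h = φ
  act_comp : ∀ {T : Type u} [CommRing T] (α β : Γ →+* T) (φ : F.D →+* T) (hβ : β.comp G.s = φ.comp F.ι)
    (h : α.comp G.s = β.comp G.t) (h' : (G.comp α β h).comp G.s = φ.comp F.ι)
    (h'' : α.comp G.s = (act β φ hβ).comp F.ι),
    act (G.comp α β h) φ h' = act α (act β φ hβ) h''

section Act

variable {A Γ : Type u} [CommRing A] [CommRing Γ] {G : RGrpd A Γ} {X : Gens G} {m : ℕ}

theorem hom_ext (F : FrameData G X m) {T : Type u} [CommRing T] (φ ψ : F.D →+* T) (h1 : φ.comp F.ι = ψ.comp F.ι)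
    (h2 : ∀ j a, φ (F.Q₁ j a) = ψ (F.Q₁ j a)) (h3 : ∀ κ b, φ (F.μ κ b) = ψ (F.μ κ b)) : φ = ψ := by
  have : (⊤ : Subring F.D) ≤ RingHom.eqLocus φ ψ := by
    rw [← F.gen, Subring.closure_le]
    rintro z ((⟨a, rfl⟩ | ⟨p, rfl⟩) | ⟨p, rfl⟩)
    · exact RingHom.congr_fun h1 a
    · exact h2 p.1 p.2
    · exact h3 p.1 p.2
  exact RingHom.ext fun z => this (Subring.mem_top z)

variable {K : Type u} [Field K] {x : A →+* K} (P : PtData G X m x) (R : LRing G x P.r₁ P.r₂)

/-- the inclusion of the frame ring -/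
noncomputable def jD : (LRing.frameData P R).D →+* R.L := (LRing.DL P R).subtype

theorem jD_injective : Function.Injective (jD P R) := Subtype.val_injective

theorem jD_Q₁ (j : Fin X.n) (a : Fin P.r₁) : jD P R ((LRing.frameData P R).Q₁ j a) = LRing.Q₁L P R j a := rfl

theorem jD_μ (κ : Fin m → Fin P.r₁) (b : Fin P.r₂) : jD P R ((LRing.frameData P R).μ κ b) = LRing.μL P R κ b := rfl

theorem jD_ι (a : A) : jD P R ((LRing.frameData P R).ι a) = R.γ (G.t a) := rfl

/-- the push-out of the frame ring -/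
abbrev PU := Push (LRing.frameData P R).ι (jD P R) G.s

variable {P R} (U : PU P R)

theorem PU.h : U.q2.comp G.s = (U.q1.comp R.γ).comp G.t := by
  rw [← U.hq, RingHom.comp_assoc]
  rfl

/-- the action on the universal point lands in `D ⊗ Γ` -/
theorem exists_θ : ∃ θ : (LRing.frameData P R).D →+* U.D2,
    U.j2.comp θ = (actL P R U.q2 U.q1 (PU.h U)).comp (jD P R) := by
  have hp2 : ∀ z, U.j2 (U.p2 z) = U.q2 z := fun z => RingHom.congr_fun U.j2p2 z
  have hp1 : ∀ z, U.j2 (U.p1 z) = U.q1 (jD P R z) := fun z => RingHom.congr_fun U.j2p1 z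
  have h1 : LRing.DL P R ≤ U.j2.range.comap (actL P R U.q2 U.q1 (PU.h U)) := by
    rw [LRing.DL, Subring.closure_le]
    rintro z ((⟨a, rfl⟩ | ⟨p, rfl⟩) | ⟨p, rfl⟩)
    · exact ⟨U.p2 (G.t a), (hp2 _).trans (actL_t P _ _ _ a).symm⟩
    · refine ⟨∑ k, U.p2 (G.i (X.c k p.1)) * U.p1 ((LRing.frameData P R).Q₁ k p.2), ?_⟩
      rw [map_sum]
      refine Eq.trans ?_ (actL_Q₁ P _ _ _ p.1 p.2).symm
      refine Finset.sum_congr rfl fun k _ => ?_
      rw [map_mul, hp2, hp1]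
      rfl
    · exact ⟨U.p1 ((LRing.frameData P R).μ p.1 p.2), (hp1 _).trans (actL_μ P _ _ _ p.1 p.2).symm⟩
  let e : U.D2 ≃+* U.j2.range := RingEquiv.ofBijective U.j2.rangeRestrict
    ⟨fun a b hab => U.inj (congrArg Subtype.val hab), U.j2.rangeRestrict_surjective⟩
  let c : (LRing.frameData P R).D →+* U.j2.range :=
    ((actL P R U.q2 U.q1 (PU.h U)).comp (jD P R)).codRestrict U.j2.range fun z => h1 (Subtype.property z)
  refine ⟨e.symm.toRingHom.comp c, ?_⟩
  refine RingHom.ext fun z => ?_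
  exact congrArg Subtype.val (e.apply_symm_apply (c z))

theorem nonempty_actData (P : PtData G X m x) (R : LRing G x P.r₁ P.r₂) (hs : G.s.Flat) :
    Nonempty (ActData (LRing.frameData P R)) := by
  classical
  obtain ⟨U⟩ := nonempty_push (LRing.frameData P R).ι (jD P R) (jD_injective P R) G.s hs
  obtain ⟨θ, hθ⟩ := exists_θ (P := P) (R := R) U
  have hp2 : ∀ z, U.j2 (U.p2 z) = U.q2 z := fun z => RingHom.congr_fun U.j2p2 z
  have hp1 : ∀ z, U.j2 (U.p1 z) = U.q1 (jD P R z) := fun z => RingHom.congr_fun U.j2p1 z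
  have hθ' : ∀ z, U.j2 (θ z) = actL P R U.q2 U.q1 (PU.h U) (jD P R z) := fun z => RingHom.congr_fun hθ z
  have θι : θ.comp (LRing.frameData P R).ι = U.p2.comp G.t := by
    ext a
    apply U.inj
    rw [RingHom.comp_apply, hθ', RingHom.comp_apply, hp2]
    exact actL_t P _ _ _ a
  have θQ : ∀ j a, θ ((LRing.frameData P R).Q₁ j a) =
      ∑ k, U.p2 (G.i (X.c k j)) * U.p1 ((LRing.frameData P R).Q₁ k a) := by
    intro j a
    apply U.inj
    rw [hθ', map_sum]
    refine (actL_Q₁ P _ _ _ j a).trans ?_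
    refine Finset.sum_congr rfl fun k _ => ?_
    rw [map_mul, hp2, hp1]
    rfl
  have θμ : ∀ κ b, θ ((LRing.frameData P R).μ κ b) = U.p1 ((LRing.frameData P R).μ κ b) := by
    intro κ b
    apply U.inj
    rw [hθ', hp1]
    exact actL_μ P _ _ _ κ b
  let act : ∀ {T : Type u} [CommRing T] (σ : Γ →+* T) (φ : (LRing.frameData P R).D →+* T), σ.comp G.s = φ.comp (LRing.frameData P R).ι → ((LRing.frameData P R).D →+* T) :=
    fun {T} _ σ φ h => (U.lift φ σ h.symm).choose.comp θ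
  have act1 : ∀ {T : Type u} [CommRing T] (σ : Γ →+* T) (φ : (LRing.frameData P R).D →+* T) (h : σ.comp G.s = φ.comp (LRing.frameData P R).ι) (z),
      (U.lift φ σ h.symm).choose (U.p1 z) = φ z := fun {T} _ σ φ h z =>
    RingHom.congr_fun (U.lift φ σ h.symm).choose_spec.1 z
  have act2 : ∀ {T : Type u} [CommRing T] (σ : Γ →+* T) (φ : (LRing.frameData P R).D →+* T) (h : σ.comp G.s = φ.comp (LRing.frameData P R).ι) (z),
      (U.lift φ σ h.symm).choose (U.p2 z) = σ z := fun {T} _ σ φ h z =>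
    RingHom.congr_fun (U.lift φ σ h.symm).choose_spec.2 z
  have act_ι : ∀ {T : Type u} [CommRing T] (σ : Γ →+* T) (φ : (LRing.frameData P R).D →+* T) (h : σ.comp G.s = φ.comp (LRing.frameData P R).ι),
      (act σ φ h).comp (LRing.frameData P R).ι = σ.comp G.t := by
    intro T _ σ φ h
    ext a
    exact (congrArg _ (RingHom.congr_fun θι a)).trans (act2 σ φ h _)
  have act_Q₁ : ∀ {T : Type u} [CommRing T] (σ : Γ →+* T) (φ : (LRing.frameData P R).D →+* T) (h : σ.comp G.s = φ.comp (LRing.frameData P R).ι)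
      (j : Fin X.n) (a : Fin (LRing.frameData P R).r₁), act σ φ h ((LRing.frameData P R).Q₁ j a) = ∑ k, σ (G.i (X.c k j)) * φ ((LRing.frameData P R).Q₁ k a) := by
    intro T _ σ φ h j a
    change (U.lift φ σ h.symm).choose (θ ((LRing.frameData P R).Q₁ j a)) = _
    rw [θQ, map_sum]
    refine Finset.sum_congr rfl fun k _ => ?_
    rw [map_mul, act2 σ φ h, act1 σ φ h]
  have act_μ : ∀ {T : Type u} [CommRing T] (σ : Γ →+* T) (φ : (LRing.frameData P R).D →+* T) (h : σ.comp G.s = φ.comp (LRing.frameData P R).ι)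
      (κ : Fin m → Fin (LRing.frameData P R).r₁) (b : Fin (LRing.frameData P R).r₂), act σ φ h ((LRing.frameData P R).μ κ b) = φ ((LRing.frameData P R).μ κ b) := by
    intro T _ σ φ h κ b
    exact (congrArg _ (θμ κ b)).trans (act1 σ φ h _)
  -- the identity on the universal point
  have idQ : ∀ (j : Fin X.n) (a : Fin P.r₁), ∑ k, (LRing.frameData P R).ι (G.e (G.i (X.c k j))) * (LRing.frameData P R).Q₁ k a = (LRing.frameData P R).Q₁ j a := by
    intro j a
    apply jD_injective P R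
    have h0 : (((R.γ.comp G.t)).comp G.e).comp G.s = ((RingHom.id R.L).comp R.γ).comp G.t := by
      rw [src_e, RingHom.id_comp]
    have h1 := actL_Q₁ P ((R.γ.comp G.t).comp G.e) (RingHom.id R.L) h0 j a
    rw [actL_id] at h1
    refine Eq.trans ?_ h1.symm
    rw [map_sum]
    refine Finset.sum_congr rfl fun k _ => ?_
    rw [map_mul]
    rfl
  -- composition on the universal point
  obtain ⟨V⟩ := nonempty_push (U.p2.comp G.t) U.j2 U.inj G.s hs
  have vp2 : ∀ z, V.j2 (V.p2 z) = V.q2 z := fun z => RingHom.congr_fun V.j2p2 z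
  have vp1 : ∀ z, V.j2 (V.p1 z) = V.q1 (U.j2 z) := fun z => RingHom.congr_fun V.j2p1 z
  have hαβ : V.p2.comp G.s = (V.p1.comp U.p2).comp G.t := by
    rw [← V.hp, RingHom.comp_assoc]
  have compQ : ∀ (j : Fin X.n) (a : Fin P.r₁), ∑ k, G.comp V.p2 (V.p1.comp U.p2) hαβ (G.i (X.c k j)) * V.p1 (U.p1 ((LRing.frameData P R).Q₁ k a)) =
      ∑ k, V.p2 (G.i (X.c k j)) * ∑ l, V.p1 (U.p2 (G.i (X.c l k))) * V.p1 (U.p1 ((LRing.frameData P R).Q₁ l a)) := by
    intro j a
    apply V.inj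
    have hβ' : V.j2.comp (V.p1.comp U.p2) = V.q1.comp U.q2 := by
      ext z
      simp only [RingHom.comp_apply, vp1, hp2]
    have hc : V.q2.comp G.s = (V.q1.comp U.q2).comp G.t := by
      rw [← hβ', ← V.j2p2, RingHom.comp_assoc, hαβ, RingHom.comp_assoc]
      rfl
    have hc1 : (V.q1.comp U.q2).comp G.s = ((V.q1.comp U.q1).comp R.γ).comp G.t := by
      rw [RingHom.comp_assoc, PU.h U]
      rfl
    have hc2 : (G.comp V.q2 (V.q1.comp U.q2) hc).comp G.s = ((V.q1.comp U.q1).comp R.γ).comp G.t := by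
      rw [G.comp_s, hc1]
    have hc3 : V.q2.comp G.s = ((actL P R (V.q1.comp U.q2) (V.q1.comp U.q1) hc1).comp R.γ).comp G.t := by
      rw [actL_γ, G.comp_t, hc]
    have e1 := actL_comp P (V.q1.comp U.q2) (V.q1.comp U.q1) hc1 V.q2 hc hc2 hc3
    have e2 := RingHom.congr_fun e1 (LRing.Q₁L P R j a)
    rw [actL_Q₁, actL_Q₁] at e2
    simp only [actL_Q₁] at e2
    rw [map_sum, map_sum]
    have e3 : V.j2.comp (G.comp V.p2 (V.p1.comp U.p2) hαβ) = G.comp V.q2 (V.q1.comp U.q2) hc := by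
      rw [G.comp_nat]
      exact comp_congr G V.j2p2 hβ' _ _
    refine Eq.trans ?_ (e2.trans ?_)
    · refine Finset.sum_congr rfl fun k _ => ?_
      rw [map_mul, vp1, hp1, ← e3]
      rfl
    · refine Finset.sum_congr rfl fun k _ => ?_
      rw [map_mul, vp2, map_sum]
      congr 1
      refine Finset.sum_congr rfl fun l _ => ?_
      rw [map_mul, vp1, vp1, hp1, hp2]
      rfl
  refine ⟨⟨act, act_ι, act_Q₁, act_μ, ?_, ?_⟩⟩
  · intro T _ φ h
    apply hom_ext
    · rw [act_ι _ _ h, tgt_e]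
    · intro j a
      rw [act_Q₁ _ _ h]
      refine Eq.trans ?_ (congrArg φ (idQ j a))
      rw [map_sum]
      refine Finset.sum_congr rfl fun k _ => ?_
      rw [map_mul]
      rfl
    · intro κ b
      rw [act_μ _ _ h]
  · intro T _ α β φ hβ h h' h''
    obtain ⟨f1, hf1, hf2⟩ := U.lift φ β hβ.symm
    obtain ⟨f2, hg1, hg2⟩ := V.lift f1 α (by rw [← RingHom.comp_assoc, hf2, h])
    apply hom_ext
    · rw [act_ι _ _ h', act_ι _ _ h'', G.comp_t]
    · intro j a
      rw [act_Q₁ _ _ h', act_Q₁ _ _ h'']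
      simp only [act_Q₁ _ _ hβ]
      have e1 : f2.comp (G.comp V.p2 (V.p1.comp U.p2) hαβ) = G.comp α β h := by
        rw [G.comp_nat]
        exact comp_congr G hg2 (by rw [← RingHom.comp_assoc, hg1, hf2]) _ _
      have e2 : ∀ z, f2 (V.p1 (U.p1 z)) = φ z := fun z => by
        rw [← RingHom.comp_apply, hg1, ← RingHom.comp_apply, hf1]
      have e3 : ∀ z, f2 (V.p1 (U.p2 z)) = β z := fun z => by
        rw [← RingHom.comp_apply, hg1, ← RingHom.comp_apply, hf2]
      have e4 : ∀ z, f2 (V.p2 z) = α z := fun z => by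
        rw [← RingHom.comp_apply, hg2]
      have e5 := congrArg f2 (compQ j a)
      simp only [map_sum, map_mul, e2, e3, e4] at e5
      refine Eq.trans ?_ e5
      refine Finset.sum_congr rfl fun k _ => ?_
      rw [← e1]
      rfl
    · intro κ b
      rw [act_μ _ _ h', act_μ _ _ h'', act_μ _ _ hβ]

end Act

end Groth.Agent.ResProp.EF.K213
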