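import Groth.Agent.ResProp.EF.K213.Act
import Groth.Agent.ResProp.EF.K111.FrameAsm2

/-!
# `StmtFrame` (G1B-F3): both halves are proved
-/

set_option autoImplicit false

universe u

open Groth.Agent.Grpsch.AffGrpd

namespace Groth.Agent.ResProp.EF.K213

open K743

/-- the action half in the form of helper111 -/
theorem stmtFrameAct : K111.StmtFrameAct.{u} := by
  intro A Γ _ _ G X m K _ x P R hs
  obtain ⟨a⟩ := nonempty_actData P R hs
  exact ⟨⟨a.act, a.act_ι, a.act_Q₁, a.act_μ, a.act_id, a.act_comp⟩⟩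

/-- **G1B-F3** -/
theorem stmtFrame : StmtFrame.{u} := K111.stmtFrame_of_act stmtFrameAct

end Groth.Agent.ResProp.EF.K213
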